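import Mathlib

set_option linter.unusedSectionVars false
set_option linter.unusedVariables false
set_option linter.unusedSimpArgs false
set_option autoImplicit false
set_option maxHeartbeats 400000

noncomputable section

namespace Groth.Agent.Lib.Helper6.SymBasis

open Polynomial

universe u

variable {R : Type u} [CommRing R]

lemma adjoinRoot_indep {f : R[X]} (hf : f.Monic) (m : ℕ) (hm : f.natDegree = m)
    (r : Fin m → R)
    (h : ∑ e : Fin m, AdjoinRoot.of f (r e) * AdjoinRoot.root f ^ (e : ℕ) = 0) : r = 0 := by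
  nontriviality R
  set q : R[X] := ∑ e : Fin m, C (r e) * X ^ (e : ℕ) with hq
  have h1 : AdjoinRoot.mk f q = 0 := by
    rw [hq, map_sum]
    rw [← h]
    apply Finset.sum_congr rfl
    intro e _
    rw [map_mul, map_pow, AdjoinRoot.mk_C, AdjoinRoot.mk_X]
  rw [AdjoinRoot.mk_eq_zero] at h1
  have h2 : q.degree < f.degree := by
    rw [Polynomial.degree_eq_natDegree hf.ne_zero, hm]
    exact Polynomial.degree_sum_fin_lt r
  have h3 : q = 0 := by
    by_contra hne
    exact Polynomial.Monic.not_dvd_of_degree_lt hf hne h2 h1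
  funext e
  have h4 : q.coeff (e : ℕ) = r e := by
    rw [hq, Polynomial.finsetSum_coeff]
    rw [Finset.sum_eq_single e]
    · simp
    · intro b _ hb
      rw [Polynomial.coeff_C_mul_X_pow, if_neg]
      intro h'
      exact hb (Fin.ext h'.symm)
    · intro h'; exact absurd (Finset.mem_univ e) h'
  rw [h3] at h4
  simpa using h4.symm

lemma adjoinRoot_span {f : R[X]} (hf : f.Monic) (m : ℕ) (hm : f.natDegree = m)
    (s : AdjoinRoot f) :
    ∃ r : Fin m → R, s = ∑ e : Fin m, AdjoinRoot.of f (r e) * AdjoinRoot.root f ^ (e : ℕ) := by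
  rcases subsingleton_or_nontrivial R with hR | hR
  · refine ⟨fun _ => 0, ?_⟩
    have h1 : (1 : AdjoinRoot f) = 0 := by
      rw [← map_one (AdjoinRoot.of f), Subsingleton.elim (1 : R) 0, map_zero]
    have : s = 0 := by
      calc s = s * 1 := (mul_one s).symm
        _ = 0 := by rw [h1, mul_zero]
    rw [this]
    simp
  obtain ⟨p, rfl⟩ := AdjoinRoot.mk_surjective s
  by_cases h1 : f = 1
  · refine ⟨fun _ => 0, ?_⟩
    have : AdjoinRoot.mk f p = 0 := by
      rw [AdjoinRoot.mk_eq_zero, h1]; exact one_dvd _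
    rw [this]
    simp
  · set q := p %ₘ f with hq
    have hlt : q.natDegree < m := by
      rw [← hm]; exact Polynomial.natDegree_modByMonic_lt p hf h1
    have h2 : AdjoinRoot.mk f p = AdjoinRoot.mk f q := by
      rw [AdjoinRoot.mk_eq_mk]
      refine ⟨p /ₘ f, ?_⟩
      have := Polynomial.modByMonic_add_div p f
      rw [hq]
      linear_combination -this
    refine ⟨fun e => q.coeff (e : ℕ), ?_⟩
    rw [h2]
    conv_lhs => rw [Polynomial.as_sum_range' q m hlt]
    rw [map_sum, ← Fin.sum_univ_eq_sum_range (fun e => AdjoinRoot.mk f (Polynomial.monomial e (q.coeff e))) m]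
    apply Finset.sum_congr rfl
    intro e _
    rw [← Polynomial.C_mul_X_pow_eq_monomial, map_mul, map_pow, AdjoinRoot.mk_C, AdjoinRoot.mk_X]

lemma adjoinRoot_nontrivial [Nontrivial R] {f : R[X]} (hf : f.Monic) (n : ℕ)
    (hn : f.natDegree = n + 1) : Nontrivial (AdjoinRoot f) := by
  by_contra hc
  rw [not_nontrivial_iff_subsingleton] at hc
  have := adjoinRoot_indep hf (n + 1) hn (fun _ => 1) (Subsingleton.elim _ _)
  have h1 := congrFun this 0
  simp at h1

lemma exists_quot {f : R[X]} (hf : f.Monic) (n : ℕ) (hn : f.natDegree = n + 1) :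
    ∃ f1 : (AdjoinRoot f)[X], f1.Monic ∧ f1.natDegree = n ∧
      f.map (AdjoinRoot.of f) = (X - C (AdjoinRoot.root f)) * f1 := by
  have hR : Nontrivial R := by
    by_contra hc
    rw [not_nontrivial_iff_subsingleton] at hc
    have : f = 0 := Subsingleton.elim _ _
    rw [this] at hn
    simp at hn
  have hA := adjoinRoot_nontrivial hf n hn
  set f1 := f.map (AdjoinRoot.of f) /ₘ (X - C (AdjoinRoot.root f)) with hf1
  have h1 : (X - C (AdjoinRoot.root f)) * f1 = f.map (AdjoinRoot.of f) :=
    Polynomial.mul_divByMonic_eq_iff_isRoot.mpr (AdjoinRoot.isRoot_root f)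
  have hm : (f.map (AdjoinRoot.of f)).Monic := hf.map _
  have hmon : f1.Monic := by
    apply Polynomial.Monic.of_mul_monic_left (Polynomial.monic_X_sub_C (AdjoinRoot.root f))
    rw [h1]; exact hm
  refine ⟨f1, hmon, ?_, h1.symm⟩
  have h2 := congrArg Polynomial.natDegree h1
  rw [Polynomial.Monic.natDegree_mul (Polynomial.monic_X_sub_C _) hmon,
    Polynomial.natDegree_X_sub_C, hf.natDegree_map, hn] at h2
  omega

end Groth.Agent.Lib.Helper6.SymBasis
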