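import Groth.Agent.Lib.Helper6.SymBasis.Stairs
import Groth.Agent.Lib.Helper6.SymBasis.Adjoin

set_option linter.unusedSectionVars false
set_option linter.unusedVariables false
set_option linter.unusedSimpArgs false
set_option autoImplicit false
set_option maxHeartbeats 400000

noncomputable section

namespace Groth.Agent.Lib.Helper6.SymBasis

open Polynomial

universe u

theorem exists_split_indep : ∀ (n : ℕ) (R : Type u) [CommRing R] (f : R[X]) (hf : f.Monic)
    (hn : f.natDegree = n),
    ∃ (B : Type u) (_ : CommRing B) (φ : R →+* B) (τ : Fin n → B),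
      f.map φ = ∏ i, (X - C (τ i)) ∧
      ∀ r : Stairs n → R, ∑ d, φ (r d) * smon τ d = 0 → r = 0 := by
  intro n
  induction n with
  | zero =>
    intro R _ f hf hn
    refine ⟨R, inferInstance, RingHom.id R, Fin.elim0, ?_, ?_⟩
    · have : f = 1 := hf.natDegree_eq_zero.mp hn
      rw [this]; simp
    · intro r hr
      rw [Fintype.sum_unique, smon_zero, mul_one] at hr
      funext d
      rw [Subsingleton.elim d default]
      exact hr
  | succ n ih =>
    intro R _ f hf hn
    obtain ⟨f1, hf1m, hf1d, hf1⟩ := exists_quot hf n hn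
    obtain ⟨B, instB, φ', τ', hsplit', hind'⟩ := ih (AdjoinRoot f) f1 hf1m hf1d
    refine ⟨B, instB, φ'.comp (AdjoinRoot.of f), Fin.cons (φ' (AdjoinRoot.root f)) τ', ?_, ?_⟩
    · rw [← Polynomial.map_map, hf1, Polynomial.map_mul, Polynomial.map_sub, Polynomial.map_X,
        Polynomial.map_C, hsplit', Fin.prod_univ_succ]
      simp only [Fin.cons_zero, Fin.cons_succ]
    · intro r hr
      rw [sum_stairs_succ] at hr
      have h1 : ∀ d' : Stairs n,
          ∑ e : Fin (n + 1), (φ'.comp (AdjoinRoot.of f)) (r ((stairsEquiv n).symm (e, d'))) *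
            smon (Fin.cons (φ' (AdjoinRoot.root f)) τ' : Fin (n + 1) → B)
              ((stairsEquiv n).symm (e, d')) =
          φ' (∑ e : Fin (n + 1), AdjoinRoot.of f (r ((stairsEquiv n).symm (e, d'))) *
            AdjoinRoot.root f ^ (e : ℕ)) * smon τ' d' := by
        intro d'
        rw [map_sum, Finset.sum_mul]
        apply Finset.sum_congr rfl
        intro e _
        simp only [smon_succ, Equiv.apply_symm_apply, map_mul, map_pow, Fin.cons_zero,
          Fin.cons_succ, RingHom.comp_apply]
        ring
      simp only [h1] at hr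
      have h2 := hind' _ hr
      funext d
      have h3 := congrFun h2 (stairsEquiv n d).2
      have h4 := adjoinRoot_indep hf (n + 1) hn _ h3
      have h5 := congrFun h4 (stairsEquiv n d).1
      simpa using h5

end Groth.Agent.Lib.Helper6.SymBasis
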