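import Groth.Agent.Lib.Helper6.SymBasis.Main

set_option linter.unusedSectionVars false
set_option linter.unusedVariables false
set_option linter.unusedSimpArgs false
set_option autoImplicit false
set_option maxHeartbeats 400000

noncomputable section

namespace Groth.Agent.Lib.Helper6.SymBasis

open Polynomial

section

variable (n : ℕ)

/-- the ring of `c`'s. -/
abbrev Rc := MvPolynomial (Fin n) ℤ

/-- `c_i ↦ e_{i+1}(t)`. -/
def ae : Rc n →+* MvPolynomial (Fin n) ℤ :=
  (MvPolynomial.aeval (fun i : Fin n => MvPolynomial.esymm (Fin n) ℤ ((i : ℕ) + 1))).toRingHom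

/-- elimination of the `c`'s. -/
def psi : MvPolynomial (Fin n) (Rc n) →+* MvPolynomial (Fin n) ℤ :=
  MvPolynomial.eval₂Hom (ae n) MvPolynomial.X

/-- inclusion. -/
def iot : MvPolynomial (Fin n) ℤ →+* MvPolynomial (Fin n) (Rc n) :=
  MvPolynomial.map (MvPolynomial.C : ℤ →+* Rc n)

lemma psi_C (r : Rc n) : psi n (MvPolynomial.C r) = ae n r := by simp [psi]

lemma psi_X (i : Fin n) : psi n (MvPolynomial.X i) = MvPolynomial.X i := by simp [psi]

lemma ae_X (k : Fin n) : ae n (MvPolynomial.X k) = MvPolynomial.esymm (Fin n) ℤ ((k : ℕ) + 1) := by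
  simp [ae]

lemma ae_C (m : ℤ) : ae n (MvPolynomial.C m) = MvPolynomial.C m := by
  simp [ae]

lemma psi_esymm (j : ℕ) :
    psi n (MvPolynomial.esymm (Fin n) (Rc n) j) = MvPolynomial.esymm (Fin n) ℤ j := by
  have h1 : psi n (MvPolynomial.esymm (Fin n) (Rc n) j) =
      E (MvPolynomial.X : Fin n → MvPolynomial (Fin n) ℤ) j := by
    rw [← eval₂_esymm (ae n)]; rfl
  rw [h1, E, MvPolynomial.esymm_eq_multiset_esymm]

lemma psi_kills : Ia (MvPolynomial.X : Fin n → Rc n) ≤ RingHom.ker (psi n) := by
  rw [Ia, Ideal.span_le]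
  rintro _ ⟨k, rfl⟩
  change psi n _ = 0
  rw [map_sub, psi_esymm, psi_C, ae_X, sub_self]

lemma psi_iot (y : MvPolynomial (Fin n) ℤ) : psi n (iot n y) = y := by
  induction y using MvPolynomial.induction_on with
  | C m => simp [iot, psi_C, ae_C]
  | add p q hp hq => rw [map_add, map_add, hp, hq]
  | mul_X p i hp =>
    rw [map_mul, map_mul, hp]
    simp [iot, psi_X]

lemma iot_esymm (j : ℕ) :
    iot n (MvPolynomial.esymm (Fin n) ℤ j) = MvPolynomial.esymm (Fin n) (Rc n) j := by
  simp [iot, MvPolynomial.map_esymm]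

lemma C_sub_mem (r : Rc n) :
    MvPolynomial.C r - iot n (ae n r) ∈ Ia (MvPolynomial.X : Fin n → Rc n) := by
  induction r using MvPolynomial.induction_on with
  | C m =>
    have : MvPolynomial.C (MvPolynomial.C m : Rc n) - iot n (ae n (MvPolynomial.C m)) = 0 := by
      rw [ae_C]; simp [iot]
    rw [this]; exact Ideal.zero_mem _
  | add p q hp hq =>
    have : MvPolynomial.C (p + q) - iot n (ae n (p + q)) =
        (MvPolynomial.C p - iot n (ae n p)) + (MvPolynomial.C q - iot n (ae n q)) := by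
      rw [map_add, map_add, map_add]; ring
    rw [this]; exact Ideal.add_mem _ hp hq
  | mul_X p k hp =>
    have hk : MvPolynomial.esymm (Fin n) (Rc n) ((k : ℕ) + 1) - MvPolynomial.C (MvPolynomial.X k)
        ∈ Ia (MvPolynomial.X : Fin n → Rc n) := Ideal.subset_span ⟨k, rfl⟩
    have : MvPolynomial.C (p * MvPolynomial.X k) - iot n (ae n (p * MvPolynomial.X k)) =
        (MvPolynomial.C p - iot n (ae n p)) * MvPolynomial.C (MvPolynomial.X k) -
        iot n (ae n p) * (MvPolynomial.esymm (Fin n) (Rc n) ((k : ℕ) + 1)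
          - MvPolynomial.C (MvPolynomial.X k)) := by
      rw [map_mul, map_mul, map_mul, ae_X, iot_esymm]; ring
    rw [this]
    exact Ideal.sub_mem _ (Ideal.mul_mem_right _ _ hp) (Ideal.mul_mem_left _ _ hk)

lemma sub_iot_psi_mem (z : MvPolynomial (Fin n) (Rc n)) :
    z - iot n (psi n z) ∈ Ia (MvPolynomial.X : Fin n → Rc n) := by
  induction z using MvPolynomial.induction_on with
  | C r => rw [psi_C]; exact C_sub_mem n r
  | add p q hp hq =>
    have : p + q - iot n (psi n (p + q)) = (p - iot n (psi n p)) + (q - iot n (psi n q)) := by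
      rw [map_add, map_add]; ring
    rw [this]; exact Ideal.add_mem _ hp hq
  | mul_X p i hp =>
    have : p * MvPolynomial.X i - iot n (psi n (p * MvPolynomial.X i)) =
        (p - iot n (psi n p)) * MvPolynomial.X i := by
      rw [map_mul, map_mul, psi_X]
      have : iot n (MvPolynomial.X i) = MvPolynomial.X i := by simp [iot]
      rw [this]; ring
    rw [this]; exact Ideal.mul_mem_right _ _ hp

lemma psi_ssum (p : Stairs n → Rc n) :
    psi n (ssum p) = ∑ d : Stairs n,
        (MvPolynomial.aeval (fun i : Fin n => MvPolynomial.esymm (Fin n) ℤ ((i : ℕ) + 1))) (p d) *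
          ∏ i : Fin n, MvPolynomial.X i ^ ((d i : ℕ)) := by
  rw [hom_ssum]
  apply Finset.sum_congr rfl
  intro d _
  rw [psi_C]
  simp only [psi_X]
  rfl

theorem thm16402 :
    Function.Bijective (fun p : Stairs n → MvPolynomial (Fin n) ℤ =>
      ∑ d : Stairs n,
        (MvPolynomial.aeval (fun i : Fin n => MvPolynomial.esymm (Fin n) ℤ ((i : ℕ) + 1))) (p d) *
          ∏ i : Fin n, MvPolynomial.X i ^ ((d i : ℕ))) := by
  constructor
  · intro p q hpq
    simp only at hpq
    rw [← psi_ssum, ← psi_ssum] at hpq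
    have h1 : psi n (ssum p - ssum q) = 0 := by rw [map_sub, hpq, sub_self]
    have h2 := sub_iot_psi_mem n (ssum p - ssum q)
    rw [h1, map_zero, sub_zero, ssum_sub] at h2
    have h3 := indepB (MvPolynomial.X : Fin n → Rc n) ⊥ _ (Ideal.mem_sup_left h2)
    funext d
    have := h3 d
    rw [Ideal.mem_bot] at this
    exact sub_eq_zero.mp this
  · intro y
    obtain ⟨r, hr⟩ := spanA (MvPolynomial.X : Fin n → Rc n) (iot n y)
    refine ⟨r, ?_⟩
    simp only
    rw [← psi_ssum]
    have h1 : psi n (iot n y - ssum r) = 0 := psi_kills n hr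
    rw [map_sub, psi_iot, sub_eq_zero] at h1
    exact h1.symm

end

end Groth.Agent.Lib.Helper6.SymBasis
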