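import Mathlib

set_option linter.unusedSectionVars false
set_option linter.unusedVariables false
set_option linter.unusedSimpArgs false
set_option autoImplicit false
set_option maxHeartbeats 400000

noncomputable section

namespace Groth.Agent.Lib.Helper6.SymBasis

open Polynomial

universe u v

variable {R : Type u} [CommRing R] {Q : Type v} [CommRing Q]

/-- The monic polynomial with prescribed "elementary symmetric" coefficients. -/
def fpoly {n : ℕ} (a : Fin n → R) : R[X] :=
  X ^ n + ∑ k : Fin n, C ((-1) ^ ((k : ℕ) + 1) * a k) * X ^ (n - 1 - (k : ℕ))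

lemma fpoly_tail_degree_lt {n : ℕ} (c : Fin n → R) :
    (∑ k : Fin n, C (c k) * X ^ (n - 1 - (k : ℕ))).degree < (n : WithBot ℕ) := by
  rw [← Polynomial.mem_degreeLT]
  apply Submodule.sum_mem
  intro k _
  rw [Polynomial.mem_degreeLT]
  refine lt_of_le_of_lt (Polynomial.degree_C_mul_X_pow_le _ _) ?_
  have := k.isLt
  exact_mod_cast (by omega : n - 1 - (k : ℕ) < n)

lemma fpoly_monic {n : ℕ} (a : Fin n → R) : (fpoly a).Monic :=
  Polynomial.monic_X_pow_add (fpoly_tail_degree_lt _)

lemma fpoly_natDegree [Nontrivial R] {n : ℕ} (a : Fin n → R) : (fpoly a).natDegree = n := by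
  have h1 : (fpoly a).degree = (n : WithBot ℕ) := by
    unfold fpoly
    rw [Polynomial.degree_add_eq_left_of_degree_lt, Polynomial.degree_X_pow]
    rw [Polynomial.degree_X_pow]
    exact fpoly_tail_degree_lt _
  exact Polynomial.natDegree_eq_of_degree_eq_some h1

lemma fpoly_map {n : ℕ} (a : Fin n → R) (φ : R →+* Q) :
    (fpoly a).map φ = fpoly (fun k => φ (a k)) := by
  simp [fpoly, Polynomial.map_sum]

/-- esymm of a family. -/
def E {n : ℕ} (τ : Fin n → Q) (j : ℕ) : Q := (Finset.univ.val.map τ).esymm j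

lemma prod_eq_fpoly {n : ℕ} (τ : Fin n → Q) :
    ∏ i, (X - C (τ i)) = fpoly (fun k : Fin n => E τ ((k : ℕ) + 1)) := by
  have h1 : ∏ i, (X - C (τ i)) = ((Finset.univ.val.map τ).map fun t => X - C t).prod := by
    rw [Multiset.map_map]
    rfl
  rw [h1, Multiset.prod_X_sub_X_eq_sum_esymm]
  have hc : Multiset.card (Finset.univ.val.map τ) = n := by simp
  rw [hc, Finset.sum_range_succ', fpoly]
  have he0 : (Finset.univ.val.map τ).esymm 0 = 1 := by
    simp [Multiset.esymm, Multiset.powersetCard_zero_left]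
  simp only [pow_zero, one_mul, he0, Nat.sub_zero, map_one]
  rw [add_comm]
  congr 1
  rw [← Fin.sum_univ_eq_sum_range
    (fun k => (-1 : Q[X]) ^ (k + 1) * (C ((Finset.univ.val.map τ).esymm (k + 1)) * X ^ (n - (k + 1)))) n]
  apply Finset.sum_congr rfl
  intro k _
  simp only [E, map_mul, map_pow, map_neg, map_one]
  rw [Nat.sub_sub, add_comm 1 (k : ℕ)]
  ring

lemma fpoly_injective {n : ℕ} {a b : Fin n → R} (h : fpoly a = fpoly b) : a = b := by
  unfold fpoly at h
  have h1 := add_left_cancel h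
  funext k
  have h2 := congrArg (fun p => p.coeff (n - 1 - (k : ℕ))) h1
  simp only [Polynomial.finsetSum_coeff, Polynomial.coeff_C_mul_X_pow] at h2
  have key : ∀ c : Fin n → R, (∑ x : Fin n,
      if n - 1 - (k : ℕ) = n - 1 - (x : ℕ) then (-1) ^ ((x : ℕ) + 1) * c x else 0) =
      (-1) ^ ((k : ℕ) + 1) * c k := by
    intro c
    rw [Finset.sum_eq_single k]
    · simp
    · intro x _ hx
      rw [if_neg]
      intro h'
      apply hx
      apply Fin.ext
      have := k.isLt
      have := x.isLt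
      omega
    · intro h'; exact absurd (Finset.mem_univ k) h'
  rw [key a, key b] at h2
  have h3 : ((-1 : R) ^ ((k : ℕ) + 1)) * ((-1) ^ ((k : ℕ) + 1) * a k) =
      ((-1 : R) ^ ((k : ℕ) + 1)) * ((-1) ^ ((k : ℕ) + 1) * b k) := by rw [h2]
  have h4 : ((-1 : R) ^ ((k : ℕ) + 1)) * (-1) ^ ((k : ℕ) + 1) = 1 := by
    rw [← mul_pow]; simp
  rw [← mul_assoc, ← mul_assoc, h4, one_mul, one_mul] at h3
  exact h3

/-- The key equivalence. -/
lemma split_iff {n : ℕ} (a : Fin n → R) (φ : R →+* Q) (τ : Fin n → Q) :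
    (fpoly a).map φ = ∏ i, (X - C (τ i)) ↔ ∀ k : Fin n, E τ ((k : ℕ) + 1) = φ (a k) := by
  rw [fpoly_map, prod_eq_fpoly]
  constructor
  · intro h k
    exact (congrFun (fpoly_injective h) k).symm
  · intro h
    congr 1
    funext k
    exact (h k).symm

lemma eval₂_esymm {n : ℕ} (φ : R →+* Q) (τ : Fin n → Q) (j : ℕ) :
    MvPolynomial.eval₂ φ τ (MvPolynomial.esymm (Fin n) R j) = E τ j := by
  unfold E
  rw [MvPolynomial.esymm, MvPolynomial.eval₂_sum, Finset.esymm_map_val]
  apply Finset.sum_congr rfl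
  intro t _
  rw [MvPolynomial.eval₂_prod]
  simp

end Groth.Agent.Lib.Helper6.SymBasis
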