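import Groth.Agent.Lib.Helper6.SymBasis.Span
import Groth.Agent.Lib.Helper6.SymBasis.Indep
import Groth.Agent.Lib.Helper6.SymBasis.Vieta

set_option linter.unusedSectionVars false
set_option linter.unusedVariables false
set_option linter.unusedSimpArgs false
set_option autoImplicit false
set_option maxHeartbeats 400000

noncomputable section

namespace Groth.Agent.Lib.Helper6.SymBasis

open Polynomial

universe u

variable {R : Type u} [CommRing R]

/-- The ideal generated by `e_{i+1}(t) - a_i`. -/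
def Ia {n : ℕ} (a : Fin n → R) : Ideal (MvPolynomial (Fin n) R) :=
  Ideal.span (Set.range fun i : Fin n =>
    MvPolynomial.esymm (Fin n) R ((i : ℕ) + 1) - MvPolynomial.C (a i))

/-- the staircase sum. -/
def ssum {n : ℕ} (r : Stairs n → R) : MvPolynomial (Fin n) R :=
  ∑ d : Stairs n, MvPolynomial.C (r d) * ∏ i : Fin n, MvPolynomial.X i ^ ((d i : ℕ))

lemma ssum_eq {n : ℕ} (r : Stairs n → R) :
    ssum r = ∑ d : Stairs n, MvPolynomial.C (r d) * smon (MvPolynomial.X : Fin n → _) d := rfl

lemma hom_ssum {n : ℕ} {B : Type*} [CommRing B] (Ψ : MvPolynomial (Fin n) R →+* B)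
    (r : Stairs n → R) :
    Ψ (ssum r) = ∑ d, Ψ (MvPolynomial.C (r d)) * smon (fun i => Ψ (MvPolynomial.X i)) d := by
  rw [ssum, map_sum]
  apply Finset.sum_congr rfl
  intro d _
  rw [map_mul, map_prod, smon]
  simp only [map_pow]

/-- (A) spanning. -/
theorem spanA {n : ℕ} (a : Fin n → R) (x : MvPolynomial (Fin n) R) :
    ∃ r : Stairs n → R, x - ssum r ∈ Ia a := by
  rcases subsingleton_or_nontrivial R with hR | hR
  · refine ⟨fun _ => 0, ?_⟩
    have : x - ssum (fun _ => (0 : R)) = 0 := Subsingleton.elim _ _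
    rw [this]; exact Ideal.zero_mem _
  set mk := Ideal.Quotient.mk (Ia a) with hmk
  set φ : R →+* (MvPolynomial (Fin n) R ⧸ Ia a) := mk.comp MvPolynomial.C with hφ
  set τ : Fin n → (MvPolynomial (Fin n) R ⧸ Ia a) := fun i => mk (MvPolynomial.X i) with hτ
  have hev : ∀ p : MvPolynomial (Fin n) R, MvPolynomial.eval₂ φ τ p = mk p := by
    intro p
    induction p using MvPolynomial.induction_on with
    | C r => simp [hφ]
    | add p q hp hq => rw [MvPolynomial.eval₂_add, hp, hq, map_add]
    | mul_X p i hp => rw [MvPolynomial.eval₂_mul, hp, MvPolynomial.eval₂_X, map_mul]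
  have hsplit : (fpoly a).map φ = ∏ i, (X - C (τ i)) := by
    rw [split_iff]
    intro k
    rw [← eval₂_esymm φ τ, hev]
    change mk _ = mk (MvPolynomial.C (a k))
    rw [Ideal.Quotient.eq]
    exact Ideal.subset_span ⟨k, rfl⟩
  have hx : mk x ∈ Subring.closure (Set.range φ ∪ Set.range τ) := by
    induction x using MvPolynomial.induction_on with
    | C r => exact Subring.subset_closure (Or.inl ⟨r, rfl⟩)
    | add p q hp hq => rw [map_add]; exact Subring.add_mem _ hp hq
    | mul_X p i hp =>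
      rw [map_mul]
      exact Subring.mul_mem _ hp (Subring.subset_closure (Or.inr ⟨i, rfl⟩))
  obtain ⟨r, hr⟩ := span_of_split n R _ φ τ (fpoly a) (fpoly_monic a) (fpoly_natDegree a) hsplit
    (mk x) hx
  refine ⟨r, ?_⟩
  rw [← Ideal.Quotient.eq, hr, hom_ssum]
  rfl

/-- (B) independence modulo `J`. -/
theorem indepB {n : ℕ} (a : Fin n → R) (J : Ideal R) (r : Stairs n → R)
    (h : ssum r ∈ Ia a ⊔ Ideal.map (MvPolynomial.C : R →+* MvPolynomial (Fin n) R) J) :
    ∀ d, r d ∈ J := by
  rcases subsingleton_or_nontrivial (R ⧸ J) with hR | hR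
  · intro d
    have : J = ⊤ := Ideal.Quotient.subsingleton_iff.mp hR
    rw [this]; trivial
  set π := Ideal.Quotient.mk J with hπ
  obtain ⟨B, instB, φ, τ, hsplit, hind⟩ := exists_split_indep n (R ⧸ J)
    (fpoly (fun k => π (a k))) (fpoly_monic _) (fpoly_natDegree _)
  have hE := (split_iff (fun k => π (a k)) φ τ).mp hsplit
  set Ψ : MvPolynomial (Fin n) R →+* B := MvPolynomial.eval₂Hom (φ.comp π) τ with hΨ
  have hΨC : ∀ c, Ψ (MvPolynomial.C c) = φ (π c) := by
    intro c; simp [hΨ]
  have hΨX : ∀ i, Ψ (MvPolynomial.X i) = τ i := by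
    intro i; simp [hΨ]
  have hker : Ia a ⊔ Ideal.map (MvPolynomial.C : R →+* MvPolynomial (Fin n) R) J ≤ RingHom.ker Ψ := by
    apply sup_le
    · rw [Ia, Ideal.span_le]
      rintro _ ⟨k, rfl⟩
      change Ψ _ = 0
      rw [map_sub, hΨC]
      have : Ψ (MvPolynomial.esymm (Fin n) R ((k : ℕ) + 1)) = E τ ((k : ℕ) + 1) := by
        rw [← eval₂_esymm (φ.comp π) τ]; rfl
      rw [this, hE k, sub_self]
    · rw [Ideal.map_le_iff_le_comap]
      intro c hc
      change Ψ (MvPolynomial.C c) = 0
      rw [hΨC]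
      have : π c = 0 := Ideal.Quotient.eq_zero_iff_mem.mpr hc
      rw [this, map_zero]
  have h0 : Ψ (ssum r) = 0 := hker h
  rw [hom_ssum] at h0
  simp only [hΨC, hΨX] at h0
  have h1 := hind (fun d => π (r d)) h0
  intro d
  exact Ideal.Quotient.eq_zero_iff_mem.mp (congrFun h1 d)

lemma ssum_sub {n : ℕ} (α β : Stairs n → R) : ssum α - ssum β = ssum (fun d => α d - β d) := by
  simp only [ssum, map_sub, sub_mul, Finset.sum_sub_distrib]

lemma ssum_add {n : ℕ} (α β : Stairs n → R) : ssum α + ssum β = ssum (fun d => α d + β d) := by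
  simp only [ssum, map_add, add_mul, Finset.sum_add_distrib]

lemma ssum_mem_map {n : ℕ} (J : Ideal R) (j : Stairs n → R) (hj : ∀ d, j d ∈ J) :
    ssum j ∈ Ideal.map (MvPolynomial.C : R →+* MvPolynomial (Fin n) R) J := by
  apply Ideal.sum_mem
  intro d _
  exact Ideal.mul_mem_right _ _ (Ideal.mem_map_of_mem _ (hj d))

theorem thm16403 {n : ℕ} (a : Fin n → R) (J : Ideal R) (α β : Stairs n → R) :
    ssum α - ssum β ∈ Ia a ⊔ Ideal.map (MvPolynomial.C : R →+* MvPolynomial (Fin n) R) J ↔
      ∀ d, α d - β d ∈ J := by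
  rw [ssum_sub]
  constructor
  · intro h
    exact indepB a J _ h
  · intro h
    exact Ideal.mem_sup_right (ssum_mem_map J _ h)

/-- reduction of elements of `J·R[t]`. -/
lemma reduce_mem_map {n : ℕ} (a : Fin n → R) (J : Ideal R) (v : MvPolynomial (Fin n) R)
    (hv : v ∈ Ideal.map (MvPolynomial.C : R →+* MvPolynomial (Fin n) R) J) :
    ∃ j : Stairs n → R, (∀ d, j d ∈ J) ∧ v - ssum j ∈ Ia a := by
  rw [MvPolynomial.mem_map_C_iff] at hv
  rw [MvPolynomial.as_sum v]
  have key : ∀ s : Finset (Fin n →₀ ℕ), ∃ j : Stairs n → R, (∀ d, j d ∈ J) ∧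
      (∑ m ∈ s, MvPolynomial.monomial m (v.coeff m)) - ssum j ∈ Ia a := by
    intro s
    induction s using Finset.induction_on with
    | empty =>
      refine ⟨fun _ => 0, fun _ => J.zero_mem, ?_⟩
      have : ssum (fun _ : Stairs n => (0 : R)) = 0 := by simp [ssum]
      rw [Finset.sum_empty, this, sub_zero]; exact Ideal.zero_mem _
    | insert m s hm ih =>
      obtain ⟨j, hj, hjm⟩ := ih
      obtain ⟨r, hr⟩ := spanA a (MvPolynomial.monomial m (1 : R))
      refine ⟨fun d => v.coeff m * r d + j d, fun d => J.add_mem (J.mul_mem_right _ (hv m)) (hj d), ?_⟩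
      rw [Finset.sum_insert hm, ← ssum_add]
      have h1 : MvPolynomial.monomial m (v.coeff m) =
          MvPolynomial.C (v.coeff m) * MvPolynomial.monomial m (1 : R) := by
        rw [MvPolynomial.C_mul_monomial, mul_one]
      have h2 : ssum (fun d => v.coeff m * r d) = MvPolynomial.C (v.coeff m) * ssum r := by
        simp only [ssum, Finset.mul_sum, map_mul, mul_assoc]
      rw [h1, h2]
      have : MvPolynomial.C (v.coeff m) * MvPolynomial.monomial m (1 : R) +
          ∑ x ∈ s, MvPolynomial.monomial x (v.coeff x) -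
          (MvPolynomial.C (v.coeff m) * ssum r + ssum j) =
          MvPolynomial.C (v.coeff m) * (MvPolynomial.monomial m (1 : R) - ssum r) +
          (∑ x ∈ s, MvPolynomial.monomial x (v.coeff x) - ssum j) := by ring
      rw [this]
      exact Ideal.add_mem _ (Ideal.mul_mem_left _ _ hr) hjm
  exact key _

theorem thm16404 {n : ℕ} (a : Fin n → R) (J : Ideal R) (x : MvPolynomial (Fin n) R) :
    x ∈ Ia a ⊔ Ideal.map (MvPolynomial.C : R →+* MvPolynomial (Fin n) R) J ↔
      ∃ j : Stairs n → R, (∀ d, j d ∈ J) ∧ x - ssum j ∈ Ia a := by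
  constructor
  · intro h
    obtain ⟨u, hu, v, hv, rfl⟩ := Submodule.mem_sup.mp h
    obtain ⟨j, hj, hjv⟩ := reduce_mem_map a J v hv
    refine ⟨j, hj, ?_⟩
    have : u + v - ssum j = u + (v - ssum j) := by ring
    rw [this]
    exact Ideal.add_mem _ hu hjv
  · rintro ⟨j, hj, h⟩
    have : x = (x - ssum j) + ssum j := by ring
    rw [this]
    exact Ideal.add_mem _ (Ideal.mem_sup_left h) (Ideal.mem_sup_right (ssum_mem_map J j hj))

end Groth.Agent.Lib.Helper6.SymBasis
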