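import Groth.Agent.Lib.Helper6.SymBasis.Stairs
import Groth.Agent.Lib.Helper6.SymBasis.Adjoin

set_option linter.unusedSectionVars false
set_option linter.unusedVariables false
set_option linter.unusedSimpArgs false
set_option autoImplicit false
set_option maxHeartbeats 400000

noncomputable section

namespace Groth.Agent.Lib.Helper6.SymBasis

open Polynomial

universe u v

/-- Common set-up of the induction step. -/
lemma step_data {R : Type u} [CommRing R] {Q : Type v} [CommRing Q] (φ : R →+* Q) {n : ℕ}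
    (τ : Fin (n + 1) → Q) (f : R[X]) (hf : f.Monic) (hn : f.natDegree = n + 1)
    (hsplit : f.map φ = ∏ i, (X - C (τ i))) :
    ∃ (f1 : (AdjoinRoot f)[X]) (φ1 : AdjoinRoot f →+* Q), f1.Monic ∧ f1.natDegree = n ∧
      φ1.comp (AdjoinRoot.of f) = φ ∧ φ1 (AdjoinRoot.root f) = τ 0 ∧
      f1.map φ1 = ∏ i : Fin n, (X - C (τ i.succ)) := by
  obtain ⟨f1, hf1m, hf1d, hf1⟩ := exists_quot hf n hn
  have hroot : f.eval₂ φ (τ 0) = 0 := by
    rw [← Polynomial.eval_map, hsplit, Polynomial.eval_prod, Fin.prod_univ_succ]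
    simp
  refine ⟨f1, AdjoinRoot.lift φ (τ 0) hroot, hf1m, hf1d, AdjoinRoot.lift_comp_of _, AdjoinRoot.lift_root _, ?_⟩
  set φ1 := AdjoinRoot.lift φ (τ 0) hroot with hφ1
  have h1 : φ1.comp (AdjoinRoot.of f) = φ := AdjoinRoot.lift_comp_of _
  have h2 : φ1 (AdjoinRoot.root f) = τ 0 := AdjoinRoot.lift_root _
  have h3 : (f.map (AdjoinRoot.of f)).map φ1 = f.map φ := by rw [Polynomial.map_map, h1]
  rw [hf1, Polynomial.map_mul, Polynomial.map_sub, Polynomial.map_X, Polynomial.map_C, h2, hsplit,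
    Fin.prod_univ_succ] at h3
  exact (Polynomial.monic_X_sub_C (τ 0)).isRegular.left h3

theorem span_of_split : ∀ (n : ℕ) (R : Type u) [CommRing R] (Q : Type v) [CommRing Q]
    (φ : R →+* Q) (τ : Fin n → Q) (f : R[X]) (hf : f.Monic) (hn : f.natDegree = n)
    (hsplit : f.map φ = ∏ i, (X - C (τ i))) (x : Q)
    (hx : x ∈ Subring.closure (Set.range φ ∪ Set.range τ)),
    ∃ r : Stairs n → R, x = ∑ d, φ (r d) * smon τ d := by
  intro n
  induction n with
  | zero =>
    intro R _ Q _ φ τ f hf hn hsplit x hx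
    have h1 : Set.range φ ∪ Set.range τ = (φ.range : Set Q) := by
      have : Set.range τ = ∅ := Set.range_eq_empty τ
      rw [this, Set.union_empty]; rfl
    rw [h1, Subring.closure_eq] at hx
    obtain ⟨r, rfl⟩ := hx
    refine ⟨fun _ => r, ?_⟩
    rw [Fintype.sum_unique, smon_zero, mul_one]
  | succ n ih =>
    intro R _ Q _ φ τ f hf hn hsplit x hx
    obtain ⟨f1, φ1, hf1m, hf1d, hφ1, hφ1root, hsplit1⟩ := step_data φ τ f hf hn hsplit
    have hx1 : x ∈ Subring.closure (Set.range φ1 ∪ Set.range (fun i : Fin n => τ i.succ)) := by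
      apply (Subring.closure_le.mpr ?_) hx
      rintro y (⟨r, rfl⟩ | ⟨i, rfl⟩)
      · apply Subring.subset_closure; left
        exact ⟨AdjoinRoot.of f r, by rw [← hφ1]; rfl⟩
      · refine Fin.cases ?_ ?_ i
        · apply Subring.subset_closure; left; exact ⟨AdjoinRoot.root f, hφ1root⟩
        · intro j; apply Subring.subset_closure; right; exact ⟨j, rfl⟩
    obtain ⟨s, hs⟩ := ih (AdjoinRoot f) Q φ1 (fun i => τ i.succ) f1 hf1m hf1d hsplit1 x hx1
    choose r hr using fun d' => adjoinRoot_span hf (n + 1) hn (s d')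
    refine ⟨fun d => r (stairsEquiv n d).2 (stairsEquiv n d).1, ?_⟩
    rw [hs, sum_stairs_succ]
    apply Finset.sum_congr rfl
    intro d' _
    rw [hr d', map_sum, Finset.sum_mul]
    apply Finset.sum_congr rfl
    intro e _
    simp only [smon_succ, Equiv.apply_symm_apply, map_mul, map_pow, hφ1root]
    have : φ1 (AdjoinRoot.of f (r d' e)) = φ (r d' e) := by rw [← hφ1]; rfl
    rw [this]
    ring

end Groth.Agent.Lib.Helper6.SymBasis
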