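import Mathlib

set_option linter.unusedSectionVars false
set_option linter.unusedVariables false
set_option linter.unusedSimpArgs false
set_option autoImplicit false
set_option maxHeartbeats 400000

noncomputable section

namespace Groth.Agent.Lib.Helper6.SymBasis

/-- staircase exponent vectors. -/
abbrev Stairs (n : ℕ) := Π i : Fin n, Fin (n - (i : ℕ))

/-- peel off the first exponent. -/
def stairsEquiv (n : ℕ) : Stairs (n + 1) ≃ Fin (n + 1) × Stairs n :=
  ((Fin.consEquiv (fun i : Fin (n + 1) => Fin (n + 1 - (i : ℕ)))).symm).trans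
    (Equiv.prodCongr (finCongr (by simp)) (Equiv.piCongrRight fun i => finCongr (by simp)))

lemma stairsEquiv_fst (n : ℕ) (d : Stairs (n + 1)) :
    ((stairsEquiv n d).1 : ℕ) = (d 0 : ℕ) := by
  simp [stairsEquiv, Fin.consEquiv]

lemma stairsEquiv_snd (n : ℕ) (d : Stairs (n + 1)) (i : Fin n) :
    ((stairsEquiv n d).2 i : ℕ) = (d i.succ : ℕ) := by
  simp [stairsEquiv, Fin.consEquiv, Fin.tail]

variable {Q : Type*} [CommRing Q]

/-- the staircase monomial. -/
def smon {n : ℕ} (τ : Fin n → Q) (d : Stairs n) : Q := ∏ i : Fin n, τ i ^ (d i : ℕ)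

lemma smon_succ {n : ℕ} (τ : Fin (n + 1) → Q) (d : Stairs (n + 1)) :
    smon τ d = τ 0 ^ ((stairsEquiv n d).1 : ℕ) * smon (fun i => τ i.succ) (stairsEquiv n d).2 := by
  unfold smon
  rw [Fin.prod_univ_succ, stairsEquiv_fst]
  simp only [stairsEquiv_snd]

lemma smon_zero (τ : Fin 0 → Q) (d : Stairs 0) : smon τ d = 1 := by
  simp [smon]

lemma sum_stairs_succ {n : ℕ} {M : Type*} [AddCommMonoid M] (F : Stairs (n + 1) → M) :
    ∑ d : Stairs (n + 1), F d =
      ∑ d' : Stairs n, ∑ e : Fin (n + 1), F ((stairsEquiv n).symm (e, d')) := by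
  rw [← (stairsEquiv n).symm.sum_comp, Fintype.sum_prod_type, Finset.sum_comm]

end Groth.Agent.Lib.Helper6.SymBasis
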